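import Mathlib.FieldTheory.RatFunc.AsPolynomial
import Mathlib.FieldTheory.IntermediateField.Adjoin.Algebra
import Mathlib.Algebra.Polynomial.Taylor
import Mathlib.Algebra.Polynomial.Div
import Mathlib.RingTheory.Algebraic.Basic
import Mathlib.RingTheory.Int.Basic
import Mathlib.GroupTheory.Archimedean

/-! # A field with a nontrivial rational action of `𝔾_a` or `𝔾_m` is purely transcendental over the invariants -/

set_option autoImplicit false
noncomputable section
open Polynomial

universe u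

namespace Groth.Agent.GaGm29

variable {L : Type u} [Field L]

local notation "ι" => algebraMap (Polynomial L) (RatFunc L)

/-- The substitution `X ↦ X + s`, coefficients in `L(s)`. -/
def addSub : L[X] →+* (RatFunc L)[X] :=
  eval₂RingHom ((C).comp RatFunc.C) (X + C RatFunc.X)

/-- The substitution `X ↦ s * X`, coefficients in `L(s)`. -/
def mulSub : L[X] →+* (RatFunc L)[X] :=
  eval₂RingHom ((C).comp RatFunc.C) (C RatFunc.X * X)

theorem addSub_eq (P : L[X]) : addSub P = taylor RatFunc.X (P.map RatFunc.C) := by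
  rw [taylor_apply, addSub, coe_eval₂RingHom, comp, eval₂_map]

theorem mulSub_eq (P : L[X]) : mulSub P = (P.map RatFunc.C).comp (C RatFunc.X * X) := by
  rw [mulSub, coe_eval₂RingHom, comp, eval₂_map]

theorem eval₂_C_X (P : L[X]) : (P.map RatFunc.C).eval RatFunc.X = ι P := by
  rw [eval_map]
  induction P using Polynomial.induction_on' with
  | add p q hp hq => rw [eval₂_add, hp, hq, map_add]
  | monomial n a => simp [← C_mul_X_pow_eq_monomial, RatFunc.algebraMap_C]

theorem addSub_coeff (P : L[X]) (i : ℕ) : (addSub P).coeff i = ι (hasseDeriv i P) := by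
  have h : hasseDeriv i (P.map (RatFunc.C : L →+* RatFunc L)) = (hasseDeriv i P).map RatFunc.C := by
    ext n; simp [hasseDeriv_coeff]
  rw [addSub_eq, taylor_coeff, h, eval₂_C_X]

theorem mulSub_coeff (P : L[X]) (i : ℕ) : (mulSub P).coeff i = RatFunc.C (P.coeff i) * RatFunc.X ^ i := by
  rw [mulSub_eq, comp_C_mul_X_coeff, coeff_map]

theorem addSub_natDegree (P : L[X]) : (addSub P).natDegree = P.natDegree := by
  rw [addSub_eq, natDegree_taylor, natDegree_map]

theorem addSub_monic {P : L[X]} (hP : P.Monic) : (addSub P).Monic := by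
  rw [addSub_eq, taylor_apply]
  exact (hP.map _).comp (monic_X_add_C _) (by rw [natDegree_X_add_C]; exact one_ne_zero)

theorem addSub_ne_zero {P : L[X]} (hP : P ≠ 0) : addSub P ≠ 0 := fun h => hP (by
  rw [addSub_eq, taylor_eq_zero] at h
  exact (Polynomial.map_eq_zero RatFunc.C).1 h)

theorem mulSub_ne_zero {P : L[X]} (hP : P ≠ 0) : mulSub P ≠ 0 := fun h => hP (by
  ext i
  have := congrArg (fun Q : (RatFunc L)[X] => Q.coeff i) h
  simp only [mulSub_coeff, coeff_zero, mul_eq_zero, pow_eq_zero_iff', RatFunc.X_ne_zero, false_and,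
    or_false] at this
  rw [coeff_zero]
  exact (map_eq_zero_iff (RatFunc.C : L →+* RatFunc L) (RatFunc.C : L →+* RatFunc L).injective).1 this)

theorem mulSub_natDegree (P : L[X]) : (mulSub P).natDegree = P.natDegree := by
  rw [mulSub_eq, natDegree_comp, natDegree_map, natDegree_C_mul_X _ RatFunc.X_ne_zero, mul_one]

/-- uniqueness of reduced fractions -/
theorem reduced_unique {F : Type u} [Field F] {P Q P' Q' : F[X]} (h : IsCoprime P Q) (h' : IsCoprime P' Q')
    (hQ : Q.Monic) (hQ' : Q'.Monic) (he : P * Q' = P' * Q) : Q = Q' ∧ P = P' := by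
  have h1 : Q ∣ Q' := h.symm.dvd_of_dvd_mul_left (he ▸ dvd_mul_left _ _)
  have h2 : Q' ∣ Q := h'.symm.dvd_of_dvd_mul_left (he ▸ dvd_mul_left _ _)
  obtain rfl := eq_of_monic_of_associated hQ hQ' (associated_of_dvd_dvd h1 h2)
  exact ⟨rfl, mul_right_cancel₀ hQ.ne_zero he⟩

variable (σ : L →+* RatFunc L)

/-- the invariant elements -/
def fixedField : Subfield L where
  carrier := {f | σ f = RatFunc.C f}
  zero_mem' := by simp
  one_mem' := by simp
  add_mem' {a b} ha hb := by simp only [Set.mem_setOf_eq] at *; rw [map_add, map_add, ha, hb]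
  mul_mem' {a b} ha hb := by simp only [Set.mem_setOf_eq] at *; rw [map_mul, map_mul, ha, hb]
  neg_mem' {a} ha := by simp only [Set.mem_setOf_eq] at *; rw [map_neg, map_neg, ha]
  inv_mem' a ha := by simp only [Set.mem_setOf_eq] at *; rw [map_inv₀, map_inv₀, ha]

@[simp] theorem mem_fixedField {f : L} : f ∈ fixedField σ ↔ σ f = RatFunc.C f := Iff.rfl

theorem transcendental_of_pos_degree {u : L} {P : L[X]} (hP : σ u = ι P) (hd : 0 < P.natDegree) :
    Transcendental (fixedField σ) u := by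
  rintro ⟨G, hG, h⟩
  have h2 : ι ((G.map (fixedField σ).subtype).comp P) = 0 := by
    rw [comp, eval₂_map, hom_eval₂, ← hP, ← map_zero σ, ← h, aeval_def, hom_eval₂]
    congr 1
    ext x
    exact (RatFunc.algebraMap_C _).trans x.2.symm
  rw [map_eq_zero_iff _ (RatFunc.algebraMap_injective L), comp_eq_zero_iff] at h2
  rcases h2 with h2 | ⟨-, h2⟩
  · exact hG ((Polynomial.map_eq_zero (fixedField σ).subtype).1 h2)
  · rw [h2, natDegree_C] at hd; omega

theorem subfield_eq_top {T : Subfield L} (h : ∀ f : L, ∃ a b : L, a ∈ T ∧ b ∈ T ∧ f = a / b) : T = ⊤ := by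
  refine top_le_iff.1 fun f _ => ?_
  obtain ⟨a, b, ha, hb, rfl⟩ := h f
  exact T.div_mem ha hb

section Add

variable (hco : ∀ f : L, (σ f).num.map σ * addSub (σ f).denom = addSub (σ f).num * (σ f).denom.map σ)

/-- polynomials transforming like the expansion of an element -/
def Equivariant (P : L[X]) : Prop := P.map σ = addSub P

theorem sigma_coeff {P : L[X]} (hP : Equivariant σ P) (i : ℕ) : σ (P.coeff i) = ι (hasseDeriv i P) := by
  rw [← addSub_coeff, ← coeff_map]; exact congrArg (fun Q : (RatFunc L)[X] => Q.coeff i) hP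

include hco in
theorem equivariant_num_denom (f : L) : Equivariant σ (σ f).num ∧ Equivariant σ (σ f).denom := by
  have h := reduced_unique ((RatFunc.isCoprime_num_denom (σ f)).map (mapRingHom σ))
    ((RatFunc.isCoprime_num_denom (σ f)).map addSub) ((RatFunc.monic_denom (σ f)).map σ)
    (addSub_monic (RatFunc.monic_denom (σ f))) (hco f)
  exact ⟨h.2, h.1⟩

include hco in
theorem exists_div (f : L) : ∃ P Q : L[X], Equivariant σ P ∧ Equivariant σ Q ∧ f = P.coeff 0 / Q.coeff 0 := by
  obtain ⟨h1, h2⟩ := equivariant_num_denom σ hco f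
  refine ⟨_, _, h1, h2, σ.injective ?_⟩
  rw [map_div₀, sigma_coeff σ h1, sigma_coeff σ h2, hasseDeriv_zero, LinearMap.id_apply, LinearMap.id_apply,
    RatFunc.num_div_denom]

include hco in
theorem equivariant_of_eq {f : L} {P : L[X]} (h : σ f = ι P) : Equivariant σ P ∧ P.coeff 0 = f := by
  have hP : Equivariant σ P := by
    have := (equivariant_num_denom σ hco f).1
    rwa [h, RatFunc.num_algebraMap] at this
  refine ⟨hP, σ.injective ?_⟩
  rw [sigma_coeff σ hP, hasseDeriv_zero, LinearMap.id_apply, h]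

theorem natDegree_hasseDeriv_le' (P : L[X]) (i : ℕ) : (hasseDeriv i P).natDegree ≤ P.natDegree - i :=
  natDegree_hasseDeriv_le P i

theorem coeff_zero_mem_fixed {P : L[X]} (hP : Equivariant σ P) (hd : P.natDegree = 0) :
    P.coeff 0 ∈ fixedField σ := by
  rw [mem_fixedField, sigma_coeff σ hP, hasseDeriv_zero, LinearMap.id_apply]
  conv_lhs => rw [eq_C_of_natDegree_eq_zero hd]
  rw [RatFunc.algebraMap_C]

include hco in
theorem exists_generator_add (hne : fixedField σ ≠ ⊤) :
    ∃ u : L, Transcendental (fixedField σ) u ∧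
      ∀ T : Subfield L, fixedField σ ≤ T → u ∈ T → T = ⊤ := by
  classical
  let F := fixedField σ
  have hex : ∃ n, ∃ P : L[X], Equivariant σ P ∧ 0 < P.natDegree ∧ P.natDegree = n := by
    by_contra hc
    push Not at hc
    refine hne (subfield_eq_top fun f => ?_)
    obtain ⟨P, Q, hP, hQ, hf⟩ := exists_div σ hco f
    exact ⟨_, _, coeff_zero_mem_fixed σ hP (Nat.eq_zero_of_not_pos fun h => hc _ P hP h rfl),
      coeff_zero_mem_fixed σ hQ (Nat.eq_zero_of_not_pos fun h => hc _ Q hQ h rfl), hf⟩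
  obtain ⟨P₀, hP₀, hpos₀, hdeg₀⟩ := Nat.find_spec hex
  have hmin : ∀ P : L[X], Equivariant σ P → P.natDegree < Nat.find hex → P.natDegree = 0 :=
    fun P hP hlt => Nat.eq_zero_of_not_pos fun h => Nat.find_min hex hlt ⟨P, hP, h, rfl⟩
  have hfix : ∀ (P : L[X]) (i : ℕ), Equivariant σ P → P.natDegree < Nat.find hex + i →
      P.coeff i ∈ fixedField σ := fun P i hP hlt => by
    obtain ⟨h1, h2⟩ := equivariant_of_eq σ hco (sigma_coeff σ hP i)
    rcases Nat.eq_zero_or_pos (Nat.find hex) with h0 | h0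
    · omega
    have h3 := coeff_zero_mem_fixed σ h1 (hmin _ h1 (by have := natDegree_hasseDeriv_le' P i; omega))
    rwa [h2] at h3
  have ha : P₀.leadingCoeff ∈ fixedField σ := hfix P₀ P₀.natDegree hP₀ (by omega)
  let Pu : L[X] := C P₀.leadingCoeff⁻¹ * P₀
  have hlc : P₀.leadingCoeff ≠ 0 := leadingCoeff_ne_zero.2 fun h => by rw [h, natDegree_zero] at hpos₀; omega
  have hPu : Pu.Monic := monic_C_mul_of_mul_leadingCoeff_eq_one (inv_mul_cancel₀ hlc)
  have hdu : Pu.natDegree = Nat.find hex := by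
    rw [← hdeg₀]; exact natDegree_C_mul (inv_ne_zero hlc)
  have hPue : Equivariant σ Pu := by
    show (C P₀.leadingCoeff⁻¹ * P₀).map σ = addSub (C P₀.leadingCoeff⁻¹ * P₀)
    rw [Polynomial.map_mul, map_mul, map_C, show P₀.map σ = addSub P₀ from hP₀]
    congr 1
    rw [(fixedField σ).inv_mem ha, addSub, coe_eval₂RingHom, eval₂_C, RingHom.comp_apply]
  let u := Pu.coeff 0
  have hu : σ u = ι Pu := by rw [sigma_coeff σ hPue, hasseDeriv_zero, LinearMap.id_apply]
  refine ⟨u, transcendental_of_pos_degree σ hu (by omega), fun T hT huT => ?_⟩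
  have key : ∀ n, ∀ P : L[X], Equivariant σ P → P.natDegree ≤ n → P.coeff 0 ∈ T := by
    intro n
    induction n with
    | zero => exact fun P hP hd => hT (coeff_zero_mem_fixed σ hP (by omega))
    | succ n ih =>
      intro P hP hd
      have hs1 := (modByMonic_add_div P Pu)
      have hu' : Pu.map σ = addSub Pu := hPue
      have hdlt : (P %ₘ Pu).natDegree < Pu.natDegree :=
        natDegree_modByMonic_lt P hPu fun h => by rw [h, natDegree_one] at hdu; omega
      have hr : Equivariant σ (P %ₘ Pu) ∧ Equivariant σ (P /ₘ Pu) := by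
        have := div_modByMonic_unique (f := addSub P) (g := addSub Pu) (q := (P /ₘ Pu).map σ)
          (r := (P %ₘ Pu).map σ) (addSub_monic hPu) ⟨by
            rw [← hu', ← Polynomial.map_mul, ← Polynomial.map_add, hs1]; exact hP, by
            rw [← hu', degree_map, degree_map]; exact degree_modByMonic_lt P hPu⟩
        have h2 := div_modByMonic_unique (f := addSub P) (g := addSub Pu) (q := addSub (P /ₘ Pu))
          (r := addSub (P %ₘ Pu)) (addSub_monic hPu) ⟨by rw [← map_mul, ← map_add, hs1], by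
            refine degree_lt_degree ?_
            rwa [addSub_natDegree, addSub_natDegree]⟩
        exact ⟨this.2.symm.trans h2.2, this.1.symm.trans h2.1⟩
      have hc0 : P.coeff 0 = (P %ₘ Pu).coeff 0 + u * (P /ₘ Pu).coeff 0 := by
        conv_lhs => rw [← hs1]
        rw [coeff_add, mul_coeff_zero]
      rw [hc0]
      refine T.add_mem (hT (hfix _ 0 hr.1 (by omega))) (T.mul_mem huT (ih _ hr.2 ?_))
      rw [natDegree_divByMonic P hPu]
      omega
  refine subfield_eq_top fun f => ?_
  obtain ⟨P, Q, hP, hQ, hf⟩ := exists_div σ hco f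
  exact ⟨_, _, key _ P hP le_rfl, key _ Q hQ le_rfl, hf⟩

end Add

section Mul

variable (hco : ∀ f : L, (σ f).num.map σ * mulSub (σ f).denom = mulSub (σ f).num * (σ f).denom.map σ)

/-- `f` is a semi-invariant of weight `w` -/
def IsWeight (w : ℤ) (f : L) : Prop := σ f = RatFunc.C f * RatFunc.X ^ w

theorem sum_coeff_X (P : L[X]) (N : ℕ) (h : P.natDegree < N) :
    ∑ i ∈ Finset.range N, RatFunc.C (P.coeff i) * RatFunc.X ^ i = ι P := by
  conv_rhs => rw [P.as_sum_range' N h]
  rw [map_sum]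
  refine Finset.sum_congr rfl fun i _ => ?_
  rw [← C_mul_X_pow_eq_monomial, map_mul, map_pow, RatFunc.algebraMap_C, RatFunc.algebraMap_X]

include hco in
theorem exists_div_mul (f : L) :
    ∃ (m N : ℕ) (a b : ℕ → L), (∀ i : ℕ, IsWeight σ ((i : ℤ) - m) (a i) ∧ IsWeight σ ((i : ℤ) - m) (b i)) ∧
      f = (∑ i ∈ Finset.range N, a i) / (∑ i ∈ Finset.range N, b i) := by
  let P := (σ f).num
  let Q := (σ f).denom
  let c : (RatFunc L)[X] := C ((RatFunc.X : RatFunc L) ^ Q.natDegree)⁻¹
  have hX : (RatFunc.X : RatFunc L) ^ Q.natDegree ≠ 0 := pow_ne_zero _ RatFunc.X_ne_zero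
  have hQm : Q.Monic := RatFunc.monic_denom _
  have hmon : (c * mulSub Q).Monic := by
    refine monic_C_mul_of_mul_leadingCoeff_eq_one ?_
    rw [leadingCoeff, mulSub_natDegree, mulSub_coeff, coeff_natDegree, hQm.leadingCoeff, map_one, one_mul,
      inv_mul_cancel₀ hX]
  have hcu : IsUnit c := isUnit_C.2 (isUnit_iff_ne_zero.2 (inv_ne_zero hX))
  have h := reduced_unique ((RatFunc.isCoprime_num_denom (σ f)).map (mapRingHom σ))
    ((isCoprime_mul_unit_left hcu _ _).2 ((RatFunc.isCoprime_num_denom (σ f)).map mulSub))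
    (hQm.map σ) hmon (by
      show P.map σ * (c * mulSub Q) = c * mulSub P * Q.map σ
      rw [mul_left_comm, mul_assoc]
      exact congrArg (c * ·) (hco f))
  have hw : ∀ (R : L[X]) (_ : R.map σ = c * mulSub R) (i : ℕ),
      IsWeight σ ((i : ℤ) - Q.natDegree) (R.coeff i) := by
    intro R hR i
    have := congrArg (fun Z : (RatFunc L)[X] => Z.coeff i) hR
    simp only [coeff_map, c, coeff_C_mul, mulSub_coeff] at this
    rw [IsWeight, this, zpow_sub₀ RatFunc.X_ne_zero, zpow_natCast, zpow_natCast, div_eq_mul_inv]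
    ring
  refine ⟨Q.natDegree, max P.natDegree Q.natDegree + 1, P.coeff, Q.coeff,
    fun i => ⟨hw P h.2 i, hw Q h.1 i⟩, σ.injective ?_⟩
  have hs : ∀ (R : L[X]) (_ : R.map σ = c * mulSub R) (N : ℕ) (_ : R.natDegree < N),
      σ (∑ i ∈ Finset.range N, R.coeff i) = ι R * ((RatFunc.X : RatFunc L) ^ Q.natDegree)⁻¹ := by
    intro R hR N hN
    rw [map_sum, ← sum_coeff_X R N hN, Finset.sum_mul]
    refine Finset.sum_congr rfl fun i _ => ?_
    rw [hw R hR i, zpow_sub₀ RatFunc.X_ne_zero, zpow_natCast, zpow_natCast, div_eq_mul_inv]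
    ring
  rw [map_div₀, hs P h.2 _ (by omega), hs Q h.1 _ (by omega), mul_div_mul_right _ _ (inv_ne_zero hX),
    RatFunc.num_div_denom]

include hco in
theorem exists_generator_mul (hne : fixedField σ ≠ ⊤) :
    ∃ u : L, Transcendental (fixedField σ) u ∧
      ∀ T : Subfield L, fixedField σ ≤ T → u ∈ T → T = ⊤ := by
  let H : AddSubgroup ℤ :=
    { carrier := {w | ∃ f : L, f ≠ 0 ∧ IsWeight σ w f}
      zero_mem' := ⟨1, one_ne_zero, by simp [IsWeight]⟩
      add_mem' := fun {a b} ⟨f, hf, hf'⟩ ⟨g, hg, hg'⟩ => ⟨f * g, mul_ne_zero hf hg, by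
        rw [IsWeight, map_mul, map_mul, hf', hg', zpow_add₀ RatFunc.X_ne_zero]; ring⟩
      neg_mem' := fun {a} ⟨f, hf, hf'⟩ => ⟨f⁻¹, inv_ne_zero hf, by
        rw [IsWeight, map_inv₀, map_inv₀, hf', zpow_neg, mul_inv]⟩ }
  have hgen : ∀ T : Subfield L, (∀ w f, IsWeight σ w f → f ∈ T) → T = ⊤ := fun T hT =>
    subfield_eq_top fun f => by
      obtain ⟨m, N, a, b, hab, hf⟩ := exists_div_mul σ hco f
      exact ⟨_, _, T.sum_mem fun i _ => hT _ _ (hab i).1, T.sum_mem fun i _ => hT _ _ (hab i).2, hf⟩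
  obtain ⟨n, hn⟩ := Int.subgroup_cyclic H
  have hn0 : n ≠ 0 := fun h0 => hne (hgen _ fun w f hf => by
    rcases eq_or_ne f 0 with rfl | hf0
    · exact zero_mem _
    have : w ∈ H := ⟨f, hf0, hf⟩
    rw [hn, h0, AddSubgroup.closure_singleton_zero, AddSubgroup.mem_bot] at this
    rw [mem_fixedField, hf, this, zpow_zero, mul_one])
  have hmem : ((n.natAbs : ℕ) : ℤ) ∈ H := by
    have hnH : n ∈ H := by rw [hn]; exact AddSubgroup.subset_closure rfl
    rcases Int.natAbs_eq n with h | h
    · rwa [h] at hnH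
    · rw [h] at hnH; exact neg_mem_iff.1 hnH
  obtain ⟨u, hu0, hu⟩ := hmem
  rw [IsWeight, zpow_natCast] at hu
  have hP : σ u = ι (C u * X ^ n.natAbs) := by
    rw [hu, map_mul, map_pow, RatFunc.algebraMap_C, RatFunc.algebraMap_X]
  refine ⟨u, transcendental_of_pos_degree σ hP (by rw [natDegree_C_mul_X_pow _ _ hu0]; omega),
    fun T hT huT => hgen T fun w f hf => ?_⟩
  rcases eq_or_ne f 0 with rfl | hf0
  · exact zero_mem _
  have hw : w ∈ H := ⟨f, hf0, hf⟩
  rw [hn, AddSubgroup.mem_closure_singleton] at hw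
  obtain ⟨j, hj⟩ := hw
  obtain ⟨e, he⟩ : ((n.natAbs : ℕ) : ℤ) ∣ w := by
    rw [Int.natAbs_dvd, ← hj]; exact Dvd.intro_left _ rfl
  have hfu : f / u ^ e ∈ fixedField σ := by
    rw [mem_fixedField, map_div₀, map_div₀, map_zpow₀, map_zpow₀, hf, hu, mul_zpow, he, zpow_mul, zpow_natCast,
      mul_div_mul_right _ _ (zpow_ne_zero _ (pow_ne_zero _ RatFunc.X_ne_zero))]
  have := T.mul_mem (hT hfu) (zpow_mem huT e)
  rwa [div_mul_cancel₀ _ (zpow_ne_zero _ hu0)] at this

end Mul

end Groth.Agent.GaGm29
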