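import Mathlib
import Groth.Prelude.Def_AlgGrp
import Groth.Agent.GaGm29.Field

/-! # Field-valued points of an action and the co-action on the function field -/

set_option autoImplicit false
set_option linter.style.haveILetI false
set_option backward.isDefEq.respectTransparency.types false
noncomputable section

universe u

open CategoryTheory CategoryTheory.Limits MonoidalCategory CartesianMonoidalCategory MonObj AlgebraicGeometry

namespace Groth.Agent.GaGm29

variable {K : Type u} [Field K]

/-- the affine scheme of a `K`-algebra, over `K` -/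
abbrev pt (K : Type u) [Field K] (B : Type u) [CommRing B] [Algebra K B] : Over (Spec (CommRingCat.of K)) :=
  Over.mk (Spec.map (CommRingCat.ofHom (algebraMap K B)))

/-- functoriality of `pt` -/
def ptMap {B C : Type u} [CommRing B] [Algebra K B] [CommRing C] [Algebra K C] (f : B →ₐ[K] C) : pt K C ⟶ pt K B :=
  Over.homMk (Spec.map (CommRingCat.ofHom f.toRingHom)) (by
    show Spec.map _ ≫ Spec.map _ = Spec.map _
    rw [← Spec.map_comp, ← CommRingCat.ofHom_comp]
    exact congrArg Spec.map (CommRingCat.hom_ext f.comp_algebraMap))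

theorem ptMap_comp {B C D : Type u} [CommRing B] [Algebra K B] [CommRing C] [Algebra K C] [CommRing D] [Algebra K D]
    (f : B →ₐ[K] C) (g : C →ₐ[K] D) : ptMap g ≫ ptMap f = ptMap (g.comp f) := by
  apply Over.OverMorphism.ext
  exact (Spec.map_comp _ _).symm

theorem ptMap_id (B : Type u) [CommRing B] [Algebra K B] : ptMap (AlgHom.id K B) = 𝟙 (pt K B) := by
  apply Over.OverMorphism.ext
  exact Spec.map_id _

variable {G X : Over (Spec (CommRingCat.of K))} [GrpObj G] (a : AlgGrp.Action G X)

theorem one_act {T : Over (Spec (CommRingCat.of K))} (x : T ⟶ X) : lift (1 : T ⟶ G) x ≫ a.act = x := by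
  have h := congrArg (lift (toUnit T) x ≫ ·) a.one_act
  simp only [lift_whiskerRight_assoc, lift_leftUnitor_hom] at h
  exact h

theorem mul_act {T : Over (Spec (CommRingCat.of K))} (g h : T ⟶ G) (x : T ⟶ X) :
    lift (g * h) x ≫ a.act = lift g (lift h x ≫ a.act) ≫ a.act := by
  have := congrArg (lift (lift g h) x ≫ ·) a.mul_act
  simp only [lift_whiskerRight_assoc, lift_lift_associator_hom_assoc, lift_whiskerLeft_assoc] at this
  exact this

variable [IsIntegral X.left] [Algebra K X.left.functionField]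
  (hc : X.left.fromSpecStalk (genericPoint X.left) ≫ X.hom =
    Spec.map (CommRingCat.ofHom (algebraMap K X.left.functionField)))

/-- the generic point -/
def xi : pt K X.left.functionField ⟶ X := Over.homMk (X.left.fromSpecStalk (genericPoint X.left)) hc

include hc in
theorem exists_sigma {M : Type u} [Field M] [Algebra K M] (P : pt K M ⟶ X)
    (hη : P.left (IsLocalRing.closedPoint M) = genericPoint X.left) :
    ∃ φ : X.left.functionField →ₐ[K] M, ptMap φ ≫ xi hc = P := by
  let φ₀ : X.left.functionField ⟶ CommRingCat.of M :=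
    X.left.presheaf.stalkSpecializes (specializes_of_eq hη) ≫ Scheme.stalkClosedPointTo P.left
  have h : Spec.map φ₀ ≫ X.left.fromSpecStalk (genericPoint X.left) = P.left := by
    rw [Spec.map_comp, Category.assoc, Scheme.SpecMap_stalkSpecializes_fromSpecStalk,
      Scheme.Spec_stalkClosedPointTo_fromSpecStalk]
  have hk : CommRingCat.ofHom (algebraMap K X.left.functionField) ≫ φ₀ = CommRingCat.ofHom (algebraMap K M) := by
    apply Spec.map_injective
    rw [Spec.map_comp, ← hc, reassoc_of% h]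
    exact Over.w P
  refine ⟨⟨φ₀.hom, fun c => congr($hk c)⟩, ?_⟩
  apply Over.OverMorphism.ext
  exact h

theorem sigma_injective {M : Type u} [Field M] [Algebra K M] {φ ψ : X.left.functionField →ₐ[K] M}
    (h : ptMap φ ≫ xi hc = ptMap ψ ≫ xi hc) : φ = ψ := by
  have h' := congrArg CommaMorphism.left h
  change Spec.map (CommRingCat.ofHom φ.toRingHom) ≫ X.left.fromSpecStalk _ =
    Spec.map (CommRingCat.ofHom ψ.toRingHom) ≫ X.left.fromSpecStalk _ at h'
  rw [cancel_mono] at h'
  exact AlgHom.coe_ringHom_injective (congrArg CommRingCat.Hom.hom (Spec.map_injective h'))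

/-- the constant map `L → L(t)` -/
def cst (L : Type u) [Field L] [Algebra K L] : L →ₐ[K] RatFunc L :=
  IsScalarTower.toAlgHom K L (RatFunc L)

@[simp] theorem cst_apply {L : Type u} [Field L] [Algebra K L] (f : L) : cst (K := K) L f = RatFunc.C f :=
  DFunLike.congr_fun (RatFunc.algebraMap_eq_C (K := L)) f

include hc in
theorem exists_coaction (gt : pt K (RatFunc X.left.functionField) ⟶ G) (O : Type u) [CommRing O] [IsDomain O] [Algebra K O]
    (c : X.left.functionField →ₐ[K] O) (gO : pt K O ⟶ G) (e : O →ₐ[K] X.left.functionField)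
    (m : O →ₐ[K] RatFunc X.left.functionField) (hec : e.comp c = AlgHom.id K _) (hmc : m.comp c = cst _)
    (hm : Function.Injective m) (heg : ptMap e ≫ gO = 1) (hmg : ptMap m ≫ gO = gt) :
    ∃ σ : X.left.functionField →ₐ[K] RatFunc X.left.functionField,
      lift gt (ptMap (cst _) ≫ xi hc) ≫ a.act = ptMap σ ≫ xi hc := by
  let Q : pt K O ⟶ X := lift gO (ptMap c ≫ xi hc) ≫ a.act
  have h1 : ptMap e ≫ Q = xi hc := by
    simp only [Q, comp_lift_assoc]
    rw [← Category.assoc, ptMap_comp, hec, ptMap_id, Category.id_comp, heg, one_act]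
  have h2 : ptMap m ≫ Q = lift gt (ptMap (cst _) ≫ xi hc) ≫ a.act := by
    simp only [Q, comp_lift_assoc]
    rw [← Category.assoc, ptMap_comp, hmc, hmg]
  rw [← h2]
  obtain ⟨σ, hσ⟩ := exists_sigma hc (ptMap m ≫ Q) (by
    have hs : (ptMap m).left (IsLocalRing.closedPoint _) ⤳ (ptMap e).left (IsLocalRing.closedPoint _) := by
      refine (PrimeSpectrum.le_iff_specializes _ _).1 ?_
      show Ideal.comap m.toRingHom (IsLocalRing.maximalIdeal _) ≤ Ideal.comap e.toRingHom (IsLocalRing.maximalIdeal _)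
      rw [IsLocalRing.maximalIdeal_eq_bot, ← RingHom.ker_eq_comap_bot,
        (RingHom.injective_iff_ker_eq_bot m.toRingHom).1 hm]
      exact bot_le
    have hs' := hs.map Q.left.continuous
    rw [show Q.left ((ptMap e).left (IsLocalRing.closedPoint _)) = genericPoint X.left from
      (congr(($h1).left (IsLocalRing.closedPoint _))).trans Scheme.fromSpecStalk_closedPoint] at hs'
    exact (hs'.antisymm ((genericPoint_spec X.left).specializes trivial)).eq)
  exact ⟨σ, hσ.symm⟩

/-- pulling the defining equation of the co-action back to a field -/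
theorem compat {gt : pt K (RatFunc X.left.functionField) ⟶ G}
    {σ : X.left.functionField →ₐ[K] RatFunc X.left.functionField}
    (hσ : lift gt (ptMap (cst _) ≫ xi hc) ≫ a.act = ptMap σ ≫ xi hc)
    {M : Type u} [Field M] [Algebra K M] (A : RatFunc X.left.functionField →ₐ[K] M) :
    lift (ptMap A ≫ gt) (ptMap (A.comp (cst _)) ≫ xi hc) ≫ a.act = ptMap (A.comp σ) ≫ xi hc := by
  rw [← ptMap_comp, ← ptMap_comp, Category.assoc, Category.assoc, ← comp_lift_assoc, hσ]

include hc in
/-- if the generic orbit map is constant, the action is trivial -/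
theorem act_eq_snd [IsSeparated X.hom] (gt : pt K (RatFunc X.left.functionField) ⟶ G)
    (huniv : ∀ (A : Type u) [CommRing A] [IsDomain A] [Algebra K A] (i : A →ₐ[K] X.left.functionField),
      Function.Injective i → ∀ (B : Type u) [CommRing B] [Algebra K B] (j : A →ₐ[K] B) (g : pt K B ⟶ G),
      ∃ (O : Type u) (_ : CommRing O) (_ : IsDomain O) (_ : Algebra K O) (c : A →ₐ[K] O) (gO : pt K O ⟶ G)
        (f : O →ₐ[K] B) (m : O →ₐ[K] RatFunc X.left.functionField), Function.Injective m ∧
        m.comp c = (cst _).comp i ∧ f.comp c = j ∧ ptMap f ≫ gO = g ∧ ptMap m ≫ gO = gt)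
    (h : lift gt (ptMap (cst _) ≫ xi hc) ≫ a.act = ptMap (cst _) ≫ xi hc) :
    a.act = snd G X := by
  apply Over.OverMorphism.ext
  refine Scheme.Cover.hom_ext (Scheme.openCoverOfIsOpenCover (G ⊗ X).left
    (fun z : {p : (G ⊗ X).left.affineOpens × X.left.affineOpens //
      (p.1 : (G ⊗ X).left.Opens) ≤ (snd G X).left ⁻¹ᵁ (p.2 : X.left.Opens)} => (z.1.1 : (G ⊗ X).left.Opens)) ?_) _ _ ?_
  · rw [TopologicalSpace.IsOpenCover, eq_top_iff]
    rintro z -
    obtain ⟨_, ⟨V, hV, rfl⟩, hzV, -⟩ := X.left.isBasis_affineOpens.exists_subset_of_mem_open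
      (Set.mem_univ ((snd G X).left z)) isOpen_univ
    obtain ⟨_, ⟨W, hW, rfl⟩, hzW, hWV⟩ := (G ⊗ X).left.isBasis_affineOpens.exists_subset_of_mem_open
      (show z ∈ (((snd G X).left ⁻¹ᵁ V : (G ⊗ X).left.Opens) : Set _) from hzV) ((snd G X).left ⁻¹ᵁ V).2
    exact TopologicalSpace.Opens.mem_iSup.2 ⟨⟨(⟨W, hW⟩, ⟨V, hV⟩), hWV⟩, hzW⟩
  rintro ⟨⟨⟨W, hW⟩, ⟨V, hV⟩⟩, hWV⟩
  show W.ι ≫ a.act.left = W.ι ≫ (snd G X).left
  by_cases hWe : Nonempty W.toScheme
  swap
  · haveI : IsEmpty W.toScheme := not_nonempty_iff.1 hWe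
    exact (isInitialOfIsEmpty (X := W.toScheme)).hom_ext _ _
  haveI : Nonempty V := ⟨⟨_, hWV hWe.some.2⟩⟩
  let cA : K →+* Γ(X.left, V) := (Spec.preimage (hV.fromSpec ≫ X.hom)).hom
  let cB : K →+* Γ((G ⊗ X).left, W) := (Spec.preimage (hW.fromSpec ≫ (G ⊗ X).hom)).hom
  letI := cA.toAlgebra
  letI := cB.toAlgebra
  have hA : Spec.map (CommRingCat.ofHom (algebraMap K Γ(X.left, V))) = hV.fromSpec ≫ X.hom := Spec.map_preimage _
  have hB : Spec.map (CommRingCat.ofHom (algebraMap K Γ((G ⊗ X).left, W))) = hW.fromSpec ≫ (G ⊗ X).hom :=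
    Spec.map_preimage _
  let i₀ : Γ(X.left, V) ⟶ X.left.functionField := X.left.germToFunctionField V
  have hi₀ : Spec.map i₀ ≫ hV.fromSpec = X.left.fromSpecStalk (genericPoint X.left) :=
    hV.fromSpecStalk_eq_fromSpecStalk _
  let i : Γ(X.left, V) →ₐ[K] X.left.functionField :=
    { i₀.hom with
      commutes' := fun c => congr($(Spec.map_injective (show Spec.map (CommRingCat.ofHom (algebraMap K Γ(X.left, V)) ≫ i₀) =
        Spec.map (CommRingCat.ofHom (algebraMap K X.left.functionField)) by
          rw [Spec.map_comp, hA, reassoc_of% hi₀, hc])) c) }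
  let j₀ : Γ(X.left, V) ⟶ Γ((G ⊗ X).left, W) := (snd G X).left.appLE V W hWV
  have hj₀ : Spec.map j₀ ≫ hV.fromSpec = hW.fromSpec ≫ (snd G X).left :=
    IsAffineOpen.SpecMap_appLE_fromSpec _ hV hW hWV
  let j : Γ(X.left, V) →ₐ[K] Γ((G ⊗ X).left, W) :=
    { j₀.hom with
      commutes' := fun c => congr($(Spec.map_injective (show Spec.map (CommRingCat.ofHom (algebraMap K Γ(X.left, V)) ≫ j₀) =
        Spec.map (CommRingCat.ofHom (algebraMap K Γ((G ⊗ X).left, W))) by
          rw [Spec.map_comp, hA, reassoc_of% hj₀, hB, Over.w (snd G X)])) c) }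
  let w : pt K Γ((G ⊗ X).left, W) ⟶ G ⊗ X := Over.homMk hW.fromSpec hB.symm
  let xA : pt K Γ(X.left, V) ⟶ X := Over.homMk hV.fromSpec hA.symm
  have hiA : ptMap i ≫ xA = xi hc := by
    apply Over.OverMorphism.ext
    exact hi₀
  have hjA : ptMap j ≫ xA = w ≫ snd G X := by
    apply Over.OverMorphism.ext
    exact hj₀
  haveI : IsDomain Γ(X.left, V) := inferInstance
  obtain ⟨O, _, _, _, c, gO, f, m, hm, hmc, hfc, hfg, hmg⟩ := huniv Γ(X.left, V) i
    (X.left.germToFunctionField_injective V) Γ((G ⊗ X).left, W) j (w ≫ fst G X)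
  have key : lift gO (ptMap c ≫ xA) ≫ a.act = ptMap c ≫ xA := by
    haveI : IsDominant (ptMap m).left := ⟨by
      show DenseRange (PrimeSpectrum.comap m.toRingHom)
      rw [PrimeSpectrum.denseRange_comap_iff_ker_le_nilRadical, (RingHom.injective_iff_ker_eq_bot m.toRingHom).1 hm]
      exact bot_le⟩
    haveI : IsReduced (pt K O).left := inferInstanceAs (IsReduced (Spec (CommRingCat.of O)))
    apply Over.OverMorphism.ext
    refine ext_of_isDominant_of_isSeparated X.hom ?_ (ptMap m).left ?_
    · rw [Over.w, Over.w]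
    · rw [← Over.comp_left, ← Over.comp_left]
      congr 1
      rw [comp_lift_assoc, ← Category.assoc, ptMap_comp, hmc, ← ptMap_comp, Category.assoc, hiA, hmg, h]
  have hw : w ≫ a.act = w ≫ snd G X := by
    conv_lhs => rw [show w = lift (w ≫ fst G X) (w ≫ snd G X) by rw [← comp_lift, lift_fst_snd, Category.comp_id]]
    rw [← hjA, ← hfg, ← hfc, ← ptMap_comp, Category.assoc, ← comp_lift_assoc, key]
  have hw' := congrArg CommaMorphism.left hw
  change hW.fromSpec ≫ a.act.left = hW.fromSpec ≫ (snd G X).left at hw'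
  rw [← hW.isoSpec_inv_ι, Category.assoc, Category.assoc, cancel_epi] at hw'
  exact hw'

end Groth.Agent.GaGm29
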