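import Mathlib
import Groth.Agent.GaGm29.Points

/-! # The co-action attached to a group with a coordinate -/

set_option autoImplicit false
set_option linter.style.haveILetI false
set_option backward.isDefEq.respectTransparency.types false
noncomputable section

universe u

open CategoryTheory CategoryTheory.Limits MonoidalCategory CartesianMonoidalCategory MonObj AlgebraicGeometry

namespace Groth.Agent.GaGm29

variable {K : Type u} [Field K]

/-- A coordinate on the points of `G` with values in affine schemes: an isomorphism with an open of the line. -/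
structure Coord (G : Over (Spec (CommRingCat.of K))) [GrpObj G] where
  q : Polynomial ℤ
  hq : ∀ (R : Type u) [Field R], q.map (Int.castRingHom R) ≠ 0
  val : ∀ (B : Type u) [CommRing B] [Algebra K B], (pt K B ⟶ G) → B
  inj : ∀ (B : Type u) [CommRing B] [Algebra K B], Function.Injective (val B)
  surj : ∀ (B : Type u) [CommRing B] [Algebra K B] (b : B),
    IsUnit (q.eval₂ (Int.castRingHom B) b) → ∃ g, val B g = b
  unit : ∀ (B : Type u) [CommRing B] [Algebra K B] (g : pt K B ⟶ G),
    IsUnit (q.eval₂ (Int.castRingHom B) (val B g))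
  comp : ∀ {B C : Type u} [CommRing B] [Algebra K B] [CommRing C] [Algebra K C] (f : B →ₐ[K] C) (g : pt K B ⟶ G),
    val C (ptMap f ≫ g) = f (val B g)

section

variable {A B : Type u} [CommRing A] [Algebra K A] [CommRing B] [Algebra K B] (q : Polynomial ℤ)

/-- `A[t][1/q(t)]` -/
abbrev Univ (A : Type u) [CommRing A] (q : Polynomial ℤ) : Type u :=
  Localization.Away (q.map (Int.castRingHom A))

/-- structure map of `A[t][1/q(t)]` -/
def univC : A →ₐ[K] Univ A q :=
  (IsScalarTower.toAlgHom K (Polynomial A) (Univ A q)).comp Polynomial.CAlgHom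

/-- the variable -/
def univX : Univ A q := algebraMap (Polynomial A) (Univ A q) Polynomial.X

theorem isUnit_univX : IsUnit (q.eval₂ (Int.castRingHom (Univ A q)) (univX q)) := by
  have h := IsLocalization.Away.algebraMap_isUnit (S := Univ A q) (q.map (Int.castRingHom A))
  have e : algebraMap (Polynomial A) (Univ A q) (q.eval₂ (Polynomial.C.comp (Int.castRingHom A)) Polynomial.X) =
      q.eval₂ (Int.castRingHom (Univ A q)) (univX q) :=
    (Polynomial.hom_eval₂ _ _ _ _).trans (congrArg (fun φ => q.eval₂ φ (univX q)) (Subsingleton.elim _ _))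
  exact e ▸ h

/-- universal property -/
def univLift (j : A →ₐ[K] B) (b : B) (hb : IsUnit (q.eval₂ (Int.castRingHom B) b)) : Univ A q →ₐ[K] B :=
  IsLocalization.liftAlgHom (M := Submonoid.powers (q.map (Int.castRingHom A)))
    (f := Polynomial.eval₂AlgHom j b (fun _ => Commute.all _ _)) (by
      rintro ⟨_, n, rfl⟩
      show IsUnit (Polynomial.eval₂AlgHom j b _ (q.map (Int.castRingHom A) ^ n))
      rw [map_pow]
      refine IsUnit.pow n ?_
      show IsUnit (Polynomial.eval₂ j.toRingHom b (q.map (Int.castRingHom A)))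
      rwa [Polynomial.eval₂_map, Subsingleton.elim (j.toRingHom.comp (Int.castRingHom A)) (Int.castRingHom B)])

theorem univLift_algebraMap (j : A →ₐ[K] B) (b : B) (hb : IsUnit (q.eval₂ (Int.castRingHom B) b)) (p : Polynomial A) :
    univLift q j b hb (algebraMap _ _ p) = p.eval₂ j.toRingHom b :=
  by
    rw [univLift, IsLocalization.liftAlgHom_apply, IsLocalization.lift_eq]
    rfl

@[simp] theorem univLift_X (j : A →ₐ[K] B) (b : B) (hb : IsUnit (q.eval₂ (Int.castRingHom B) b)) :
    univLift q j b hb (univX q) = b := by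
  rw [univX, univLift_algebraMap, Polynomial.eval₂_X]

theorem univLift_C (j : A →ₐ[K] B) (b : B) (hb : IsUnit (q.eval₂ (Int.castRingHom B) b)) :
    (univLift q j b hb).comp (univC q) = j := by
  ext a
  show univLift q j b hb (algebraMap _ _ (Polynomial.C a)) = j a
  rw [univLift_algebraMap, Polynomial.eval₂_C]
  rfl

end

variable {L : Type u} [Field L] [Algebra K L]

theorem isUnit_ratFunc_X (q : Polynomial ℤ) (hq : q.map (Int.castRingHom L) ≠ 0) :
    IsUnit (q.eval₂ (Int.castRingHom (RatFunc L)) RatFunc.X) := by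
  rw [← RatFunc.algebraMap_X, Subsingleton.elim (Int.castRingHom (RatFunc L))
    ((algebraMap (Polynomial L) (RatFunc L)).comp (Polynomial.C.comp (Int.castRingHom L))),
    ← Polynomial.hom_eval₂, ← Polynomial.eval₂_map, Polynomial.eval₂_C_X]
  exact isUnit_iff_ne_zero.2 ((map_ne_zero_iff _ (RatFunc.algebraMap_injective L)).2 hq)

theorem univLift_injective {A : Type u} [CommRing A] [IsDomain A] [Algebra K A] (q : Polynomial ℤ)
    (i : A →ₐ[K] L) (hi : Function.Injective i)
    (hu : IsUnit (q.eval₂ (Int.castRingHom (RatFunc L)) RatFunc.X)) :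
    Function.Injective (univLift q ((cst L).comp i) RatFunc.X hu) := by
  intro x y hxy
  obtain ⟨p, s, hp⟩ := IsLocalization.exists_mk'_eq (Submonoid.powers (q.map (Int.castRingHom A))) (x - y)
  have h0 : univLift q ((cst L).comp i) RatFunc.X hu (algebraMap _ _ p) = 0 := by
    rw [← IsLocalization.mk'_spec (Univ A q) p s, hp, map_mul, map_sub, hxy, sub_self, zero_mul]
  have hp0 : p = 0 := by
    rw [univLift_algebraMap] at h0
    have : algebraMap (Polynomial L) (RatFunc L) (p.map i.toRingHom) = p.eval₂ ((cst L).comp i).toRingHom RatFunc.X := by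
      conv_lhs => rw [← Polynomial.eval₂_C_X (p := p.map i.toRingHom), Polynomial.hom_eval₂, RatFunc.algebraMap_X,
        Polynomial.eval₂_map]
      congr 1
    rw [← this, map_eq_zero_iff _ (RatFunc.algebraMap_injective L), Polynomial.map_eq_zero_iff hi] at h0
    exact h0
  rw [hp0, IsLocalization.mk'_zero] at hp
  exact sub_eq_zero.1 hp.symm

variable {G X : Over (Spec (CommRingCat.of K))} [GrpObj G] (a : AlgGrp.Action G X)
  [IsIntegral X.left] [Algebra K X.left.functionField]
  (hc : X.left.fromSpecStalk (genericPoint X.left) ≫ X.hom =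
    Spec.map (CommRingCat.ofHom (algebraMap K X.left.functionField)))

include hc in
theorem exists_coaction_of_coord [IsSeparated X.hom] (ha : a.act ≠ snd G X) (Φ : Coord G) :
    ∃ (gt : pt K (RatFunc X.left.functionField) ⟶ G) (σ : X.left.functionField →ₐ[K] RatFunc X.left.functionField),
      Φ.val _ gt = RatFunc.X ∧ σ ≠ cst _ ∧ lift gt (ptMap (cst _) ≫ xi hc) ≫ a.act = ptMap σ ≫ xi hc := by
  have huX := isUnit_ratFunc_X Φ.q (Φ.hq X.left.functionField)
  obtain ⟨gt, hgt⟩ := Φ.surj (RatFunc X.left.functionField) RatFunc.X huX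
  obtain ⟨gO, hgO⟩ := Φ.surj (Univ X.left.functionField Φ.q) (univX Φ.q) (isUnit_univX Φ.q)
  haveI : IsDomain (Univ X.left.functionField Φ.q) :=
    (univLift_injective Φ.q (AlgHom.id K _) Function.injective_id huX).isDomain _
  obtain ⟨σ, hσ⟩ := exists_coaction a hc gt (Univ X.left.functionField Φ.q) (univC Φ.q) gO
    (univLift Φ.q (AlgHom.id K _) (Φ.val _ 1) (Φ.unit _ 1))
    (univLift Φ.q ((cst _).comp (AlgHom.id K _)) RatFunc.X huX)
    (univLift_C _ _ _ _) ((univLift_C _ _ _ _).trans (AlgHom.comp_id _))
    (univLift_injective _ _ Function.injective_id huX)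
    (Φ.inj _ (by rw [Φ.comp, hgO, univLift_X])) (Φ.inj _ (by rw [Φ.comp, hgO, univLift_X, hgt]))
  refine ⟨gt, σ, hgt, fun h => ha (act_eq_snd a hc gt ?_ (h ▸ hσ)), hσ⟩
  intro A _ _ _ i hi B _ _ j g
  obtain ⟨gA, hgA⟩ := Φ.surj (Univ A Φ.q) (univX Φ.q) (isUnit_univX Φ.q)
  refine ⟨Univ A Φ.q, inferInstance, ?_, inferInstance, univC Φ.q, gA, univLift Φ.q j (Φ.val B g) (Φ.unit B g),
    univLift Φ.q ((cst _).comp i) RatFunc.X huX, univLift_injective _ _ hi huX, univLift_C _ _ _ _, univLift_C _ _ _ _,
    Φ.inj _ (by rw [Φ.comp, hgA, univLift_X]), Φ.inj _ (by rw [Φ.comp, hgA, univLift_X, hgt])⟩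
  exact (univLift_injective Φ.q i hi huX).isDomain _

/-- the substitution map attached to an injective ring map on polynomials -/
def subst (h : Polynomial L →+* Polynomial (RatFunc L)) (hinj : Function.Injective h)
    (hK : ∀ c : K, h (algebraMap K (Polynomial L) c) = algebraMap K (Polynomial (RatFunc L)) c) :
    RatFunc L →ₐ[K] RatFunc (RatFunc L) where
  toRingHom := RatFunc.liftRingHom ((algebraMap (Polynomial (RatFunc L)) (RatFunc (RatFunc L))).comp h) fun p hp =>
    mem_nonZeroDivisors_of_ne_zero
      ((map_ne_zero_iff ((algebraMap (Polynomial (RatFunc L)) (RatFunc (RatFunc L))).comp h)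
        ((RatFunc.algebraMap_injective (RatFunc L)).comp hinj :)).2 (nonZeroDivisors.ne_zero hp))
  commutes' c := by
    show RatFunc.liftRingHom _ _ (algebraMap K (RatFunc L) c) = _
    rw [IsScalarTower.algebraMap_apply K (Polynomial L) (RatFunc L),
      ← div_one (algebraMap (Polynomial L) (RatFunc L) _), ← map_one (algebraMap (Polynomial L) (RatFunc L)),
      RatFunc.liftRingHom_apply_div, map_one, div_one, RingHom.comp_apply, hK,
      ← IsScalarTower.algebraMap_apply]

theorem subst_div (h : Polynomial L →+* Polynomial (RatFunc L)) (hinj : Function.Injective h)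
    (hK : ∀ c : K, h (algebraMap K (Polynomial L) c) = algebraMap K (Polynomial (RatFunc L)) c) (p q : Polynomial L) :
    subst h hinj hK (algebraMap _ (RatFunc L) p / algebraMap _ (RatFunc L) q) =
      algebraMap _ (RatFunc (RatFunc L)) (h p) / algebraMap _ (RatFunc (RatFunc L)) (h q) :=
  RatFunc.liftRingHom_apply_div _ _ p q

theorem subst_poly (h : Polynomial L →+* Polynomial (RatFunc L)) (hinj : Function.Injective h)
    (hK : ∀ c : K, h (algebraMap K (Polynomial L) c) = algebraMap K (Polynomial (RatFunc L)) c) (p : Polynomial L) :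
    subst h hinj hK (algebraMap _ (RatFunc L) p) = algebraMap _ (RatFunc (RatFunc L)) (h p) := by
  have := subst_div h hinj hK p 1
  simpa using this

theorem subst_comp_cst (h : Polynomial L →+* Polynomial (RatFunc L)) (hinj : Function.Injective h)
    (hK : ∀ c : K, h (algebraMap K (Polynomial L) c) = algebraMap K (Polynomial (RatFunc L)) c)
    (φ : L →ₐ[K] RatFunc L) (hC : ∀ f, h (Polynomial.C f) = Polynomial.C (φ f)) :
    (subst h hinj hK).comp (cst L) = (cst (RatFunc L)).comp φ := by
  ext f
  rw [AlgHom.comp_apply, AlgHom.comp_apply, cst_apply, cst_apply, ← RatFunc.algebraMap_C, subst_poly, hC,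
    RatFunc.algebraMap_C]

include hc in
theorem coassoc (Φ : Coord G) {gt : pt K (RatFunc X.left.functionField) ⟶ G} (hgt : Φ.val _ gt = RatFunc.X)
    {σ : X.left.functionField →ₐ[K] RatFunc X.left.functionField}
    (hσ : lift gt (ptMap (cst _) ≫ xi hc) ≫ a.act = ptMap σ ≫ xi hc)
    (h : Polynomial X.left.functionField →+* Polynomial (RatFunc X.left.functionField)) (hinj : Function.Injective h)
    (hC : ∀ f, h (Polynomial.C f) = Polynomial.C (RatFunc.C f))
    (hX : ∀ g₁ g₂ : pt K (RatFunc (RatFunc X.left.functionField)) ⟶ G, Φ.val _ g₁ = (RatFunc.X : RatFunc (RatFunc X.left.functionField)) →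
      Φ.val _ g₂ = RatFunc.C (RatFunc.X : RatFunc X.left.functionField) →
      Φ.val _ (g₁ * g₂) = algebraMap _ (RatFunc (RatFunc X.left.functionField)) (h Polynomial.X))
    (f : X.left.functionField) :
    (σ f).num.map σ.toRingHom * h (σ f).denom = h (σ f).num * (σ f).denom.map σ.toRingHom := by
  have hKσ : ∀ c : K, Polynomial.mapRingHom σ.toRingHom (algebraMap K (Polynomial X.left.functionField) c) =
      algebraMap K (Polynomial (RatFunc X.left.functionField)) c := fun c => by
    simp only [Polynomial.algebraMap_apply, Polynomial.coe_mapRingHom, Polynomial.map_C]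
    exact congrArg _ (σ.commutes c)
  have hKh : ∀ c : K, h (algebraMap K (Polynomial X.left.functionField) c) =
      algebraMap K (Polynomial (RatFunc X.left.functionField)) c := fun c => by
    simp only [Polynomial.algebraMap_apply, hC]
    exact congrArg _ ((cst_apply (K := K) _).symm.trans ((cst X.left.functionField).commutes c))
  let A := subst (Polynomial.mapRingHom σ.toRingHom) (Polynomial.map_injective _ σ.toRingHom.injective) hKσ
  let B := subst h hinj hKh
  have hA : A.comp (cst _) = (cst _).comp σ := subst_comp_cst _ _ _ σ fun g => Polynomial.map_C _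
  have hB : B.comp (cst _) = (cst (RatFunc X.left.functionField)).comp (cst _) :=
    subst_comp_cst _ _ _ (cst _) fun g => by rw [hC, cst_apply]
  have key : ptMap (A.comp σ) ≫ xi hc = ptMap (B.comp σ) ≫ xi hc := by
    rw [← compat a hc hσ A, ← compat a hc hσ B, hA, hB, ← compat a hc hσ (cst _), ← mul_act]
    congr 2
    apply Φ.inj
    rw [hX _ _ ?_ ?_, Φ.comp, hgt, ← RatFunc.algebraMap_X, subst_poly]
    · rw [Φ.comp, hgt, ← RatFunc.algebraMap_X, subst_poly, Polynomial.coe_mapRingHom, Polynomial.map_X,
        RatFunc.algebraMap_X]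
    · rw [Φ.comp, hgt, cst_apply]
  have he := congr($(sigma_injective hc key) f)
  rw [AlgHom.comp_apply, AlgHom.comp_apply] at he
  have eA := subst_div (Polynomial.mapRingHom σ.toRingHom) (Polynomial.map_injective _ σ.toRingHom.injective) hKσ
    (σ f).num (σ f).denom
  have eB := subst_div h hinj hKh (σ f).num (σ f).denom
  rw [RatFunc.num_div_denom] at eA eB
  replace he := eA.symm.trans (he.trans eB)
  have hd : ∀ (h' : Polynomial X.left.functionField →+* Polynomial (RatFunc X.left.functionField)),
      Function.Injective h' → algebraMap _ (RatFunc (RatFunc X.left.functionField)) (h' (σ f).denom) ≠ 0 :=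
    fun h' hh => (map_ne_zero_iff _ (RatFunc.algebraMap_injective _)).2 ((map_ne_zero_iff _ hh).2 (RatFunc.denom_ne_zero _))
  rw [div_eq_div_iff (hd (Polynomial.mapRingHom σ.toRingHom) (Polynomial.map_injective _ σ.toRingHom.injective))
    (hd h hinj), ← map_mul, ← map_mul] at he
  exact RatFunc.algebraMap_injective _ he

end Groth.Agent.GaGm29
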