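import Mathlib
import Groth.Agent.Misc15.SpreadIso

/-! # A variety whose function field is `F(u)` is birational to the affine line over a model of `F` -/

set_option autoImplicit false
set_option linter.style.haveILetI false
set_option backward.isDefEq.respectTransparency.types false
noncomputable section

universe u

open CategoryTheory CategoryTheory.Limits AlgebraicGeometry IntermediateField

namespace Groth.Agent.GaGm29

variable {K L : Type u} [Field K] [Field L] [Algebra K L]

theorem aeval_mem {R : Type u} [CommRing R] [Algebra R L] (T : Subfield L) (u : L) (hu : u ∈ T)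
    (p : Polynomial R) (hp : ∀ i, algebraMap R L (p.coeff i) ∈ T) : Polynomial.aeval u p ∈ T := by
  rw [Polynomial.aeval_eq_sum_range]
  refine T.sum_mem fun i _ => ?_
  rw [Algebra.smul_def]
  exact T.mul_mem (hp i) (T.pow_mem hu i)

theorem fg_of_generated (F : IntermediateField K L) (u : L) (hu : Transcendental F u)
    (hgen : ∀ T : Subfield L, F.toSubfield ≤ T → u ∈ T → T = ⊤)
    (hfg : (⊤ : IntermediateField K L).FG) : F.FG := by
  classical
  have htop : ∀ s : L, ∃ P Q : Polynomial F, s = Polynomial.aeval u P / Polynomial.aeval u Q := by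
    intro s
    rw [← mem_adjoin_simple_iff]
    have h : (IntermediateField.adjoin F {u}).toSubfield = ⊤ :=
      hgen _ (fun x hx => (IntermediateField.adjoin F {u}).algebraMap_mem ⟨x, hx⟩) (mem_adjoin_simple_self F u)
    exact h.ge (Subfield.mem_top s)
  choose P Q hPQ using htop
  obtain ⟨s, hs⟩ := hfg
  let c : Finset L := s.biUnion fun a =>
    ((Finset.range ((P a).natDegree + 1)).image fun i => ((P a).coeff i : L)) ∪
    ((Finset.range ((Q a).natDegree + 1)).image fun i => ((Q a).coeff i : L))
  let F₀ := adjoin K (c : Set L)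
  have hcF : F₀ ≤ F := adjoin_le_iff.2 fun x hx => by
    simp only [c, Finset.coe_biUnion, Set.mem_iUnion, Finset.mem_coe, Finset.mem_union, Finset.mem_image] at hx
    obtain ⟨a, -, ⟨i, -, rfl⟩ | ⟨i, -, rfl⟩⟩ := hx
    · exact ((P a).coeff i).2
    · exact ((Q a).coeff i).2
  have h0 : ∀ f : L, f ∈ IntermediateField.adjoin F₀ {u} := by
    intro f
    have hmem : ∀ a ∈ s, a ∈ IntermediateField.adjoin F₀ {u} := by
      intro a ha
      have hc : ∀ (p : Polynomial F), (p = P a ∨ p = Q a) → ∀ i,
          algebraMap F L (p.coeff i) ∈ (IntermediateField.adjoin F₀ {u}).toSubfield := by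
        intro p hp i
        by_cases hi : i < p.natDegree + 1
        · refine (IntermediateField.adjoin F₀ {u}).algebraMap_mem ⟨_, subset_adjoin K _ ?_⟩
          simp only [c, Finset.coe_biUnion, Set.mem_iUnion, Finset.mem_coe, Finset.mem_union, Finset.mem_image,
            Finset.mem_range]
          rcases hp with rfl | rfl
          · exact ⟨a, ha, Or.inl ⟨i, hi, rfl⟩⟩
          · exact ⟨a, ha, Or.inr ⟨i, hi, rfl⟩⟩
        · rw [Polynomial.coeff_eq_zero_of_natDegree_lt (by omega), map_zero]
          exact zero_mem _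
      rw [hPQ a]
      exact (IntermediateField.adjoin F₀ {u}).toSubfield.div_mem
        (aeval_mem _ u (mem_adjoin_simple_self F₀ u) _ (hc _ (Or.inl rfl)))
        (aeval_mem _ u (mem_adjoin_simple_self F₀ u) _ (hc _ (Or.inr rfl)))
    have : (⊤ : IntermediateField K L) ≤ (IntermediateField.adjoin F₀ {u}).restrictScalars K := by
      rw [← hs, adjoin_le_iff]
      exact fun a ha => hmem a ha
    exact this (IntermediateField.mem_top (x := f))
  suffices h : F = F₀ by rw [h]; exact fg_adjoin_finset c
  refine le_antisymm (fun f hf => ?_) hcF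
  obtain ⟨p, q, hpq⟩ := (mem_adjoin_simple_iff (F := F₀) f).1 (h0 f)
  by_cases hq : Polynomial.aeval u q = 0
  · rw [hpq, hq, div_zero]; exact zero_mem _
  rw [eq_div_iff hq] at hpq
  let j := IntermediateField.inclusion hcF
  have hj : ∀ r : Polynomial F₀, Polynomial.aeval u (r.map j.toRingHom) = Polynomial.aeval u r := fun r => by
    rw [Polynomial.aeval_def, Polynomial.eval₂_map, Polynomial.aeval_def]; rfl
  have hz : Polynomial.C (⟨f, hf⟩ : F) * q.map j.toRingHom - p.map j.toRingHom = 0 :=
    transcendental_iff.1 hu _ (by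
      rw [map_sub, map_mul, Polynomial.aeval_C, hj, hj]
      exact sub_eq_zero.2 hpq)
  obtain ⟨i, hi⟩ : ∃ i, q.coeff i ≠ 0 := by
    by_contra hc
    push Not at hc
    exact hq (by rw [show q = 0 from Polynomial.ext fun i => by rw [hc i, Polynomial.coeff_zero], map_zero])
  have := congrArg (fun r : Polynomial F => ((r.coeff i : F) : L)) hz
  simp only [Polynomial.coeff_sub, Polynomial.coeff_C_mul, Polynomial.coeff_map, Polynomial.coeff_zero] at this
  have h' : f * (q.coeff i : L) = (p.coeff i : L) := sub_eq_zero.1 this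
  rw [← eq_div_iff (fun h => hi (Subtype.ext h))] at h'
  rw [h']
  exact div_mem (p.coeff i).2 (q.coeff i).2

theorem exists_affineLine_birational (X : Over (Spec (CommRingCat.of K))) [IsIntegral X.left]
    [LocallyOfFiniteType X.hom] [Algebra K X.left.functionField]
    (hc : X.left.fromSpecStalk (genericPoint X.left) ≫ X.hom =
      Spec.map (CommRingCat.ofHom (algebraMap K X.left.functionField)))
    (F : IntermediateField K X.left.functionField) (hF : F.FG) (u : X.left.functionField)
    (hu : Transcendental F u)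
    (hgen : ∀ T : Subfield X.left.functionField, F.toSubfield ≤ T → u ∈ T → T = ⊤) :
    ∃ (Y : Over (Spec (CommRingCat.of K))) (_ : IsIntegral Y.left) (_ : LocallyOfFiniteType Y.hom)
      (U : X.left.Opens) (V : (𝔸(ULift.{u} (Fin 1); Y.left)).Opens), (U : Set X.left).Nonempty ∧
      Nonempty (Over.mk (U.ι ≫ X.hom) ≅
        Over.mk (V.ι ≫ (𝔸(ULift.{u} (Fin 1); Y.left) ↘ Y.left) ≫ Y.hom)) := by
  classical
  obtain ⟨s, hs⟩ := hF
  let A := Algebra.adjoin K (s : Set X.left.functionField)
  have hAF : ∀ a : A, (a : X.left.functionField) ∈ F := fun a => by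
    rw [← hs]; exact algebra_adjoin_le_adjoin K _ a.2
  haveI hAft : Algebra.FiniteType K A := A.fg_iff_finiteType.1 (Subalgebra.fg_adjoin_finset s)
  have huA : Transcendental A u := by
    let j : A →+* F := (A.val.toRingHom).codRestrict F hAF
    rintro ⟨G, hG, h⟩
    refine hu ⟨G.map j, (Polynomial.map_ne_zero_iff (f := j) (fun a b hab => Subtype.ext
      (congrArg (fun x : F => (x : X.left.functionField)) hab :))).2 hG, ?_⟩
    rw [Polynomial.aeval_def, Polynomial.eval₂_map]
    exact h
  let ψ : MvPolynomial (ULift.{u} (Fin 1)) A →+* X.left.functionField :=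
    (MvPolynomial.aeval fun _ => u : MvPolynomial (ULift.{u} (Fin 1)) A →ₐ[A] _).toRingHom
  have hψ : Function.Injective ψ :=
    (algebraicIndependent_unique_type_iff (R := A) (x := fun _ : ULift.{u} (Fin 1) => u)).2 huA
  have hψgen : Subfield.closure (Set.range ψ) = ⊤ := by
    let T : IntermediateField K X.left.functionField :=
      Subfield.toIntermediateField (Subfield.closure (Set.range ψ)) fun c =>
        Subfield.subset_closure ⟨MvPolynomial.C (algebraMap K A c), MvPolynomial.aeval_C _ _⟩
    refine hgen _ (show F ≤ T from ?_) (Subfield.subset_closure ⟨MvPolynomial.X default, MvPolynomial.aeval_X _ _⟩)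
    rw [← hs, adjoin_le_iff]
    exact fun a ha => Subfield.subset_closure
      ⟨MvPolynomial.C ⟨a, Algebra.subset_adjoin ha⟩, MvPolynomial.aeval_C _ _⟩
  let Y : Over (Spec (CommRingCat.of K)) := Over.mk (Spec.map (CommRingCat.ofHom (algebraMap K A)))
  haveI hY : LocallyOfFiniteType Y.hom := by
    show LocallyOfFiniteType (Spec.map (CommRingCat.ofHom (algebraMap K A)))
    rw [HasRingHomProperty.Spec_iff (P := @LocallyOfFiniteType)]
    exact RingHom.finiteType_algebraMap.2 hAft
  haveI hYi : IsIntegral Y.left := inferInstanceAs (IsIntegral (Spec (CommRingCat.of A)))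
  let e := AffineSpace.SpecIso (ULift.{u} (Fin 1)) (CommRingCat.of A)
  let B : CommRingCat.{u} := CommRingCat.of (MvPolynomial (ULift.{u} (Fin 1)) A)
  haveI : IsDomain B := inferInstanceAs (IsDomain (MvPolynomial (ULift.{u} (Fin 1)) A))
  let ψ' : B ⟶ X.left.functionField := CommRingCat.ofHom ψ
  let W := Spec B
  let sW : W ⟶ Spec (CommRingCat.of K) := e.inv ≫ (𝔸(ULift.{u} (Fin 1); Spec (CommRingCat.of A)) ↘ Spec (CommRingCat.of A)) ≫ Y.hom
  haveI : LocallyOfFiniteType sW := by dsimp only [sW]; infer_instance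
  have hqs : Spec.map ψ' ≫ sW = Spec.map (CommRingCat.ofHom (algebraMap K X.left.functionField)) := by
    simp only [sW, e, Y, Over.mk_hom, AffineSpace.SpecIso_inv_over_assoc, ← Spec.map_comp]
    exact congrArg Spec.map (CommRingCat.hom_ext (RingHom.ext fun c => MvPolynomial.aeval_C _ _))
  have hqη : Spec.map ψ' (IsLocalRing.closedPoint X.left.functionField) = genericPoint W := by
    rw [genericPoint_eq_bot_of_affine]
    refine PrimeSpectrum.ext (?_ : Ideal.comap ψ'.hom (IsLocalRing.maximalIdeal X.left.functionField) = ⊥)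
    rw [IsLocalRing.maximalIdeal_eq_bot]
    exact (RingHom.injective_iff_ker_eq_bot ψ).1 hψ
  let φ : W.functionField ⟶ X.left.functionField :=
    W.presheaf.stalkSpecializes (specializes_of_eq hqη) ≫ Scheme.stalkClosedPointTo (Spec.map ψ')
  have hq' : Spec.map φ ≫ W.fromSpecStalk (genericPoint W) = Spec.map ψ' := by
    rw [Spec.map_comp, Category.assoc, Scheme.SpecMap_stalkSpecializes_fromSpecStalk,
      Scheme.Spec_stalkClosedPointTo_fromSpecStalk]
  have hsurj : Function.Surjective φ.hom := by
    have hle : Set.range ψ ⊆ (φ.hom.fieldRange : Set X.left.functionField) := by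
      rintro _ ⟨b, rfl⟩
      have h : W.presheaf.germ ⊤ (genericPoint W) trivial ≫ φ = (Scheme.ΓSpecIso B).hom ≫ ψ' := by
        simp only [φ, W, TopCat.Presheaf.germ_stalkSpecializes_assoc]
        exact Scheme.germ_stalkClosedPointTo_Spec ψ'
      refine ⟨W.presheaf.germ ⊤ (genericPoint W) trivial ((Scheme.ΓSpecIso B).inv b), ?_⟩
      exact (congr($h ((Scheme.ΓSpecIso B).inv b))).trans
        (congrArg ψ'.hom (congr($((Scheme.ΓSpecIso B).inv_hom_id) b)))
    exact RingHom.fieldRange_eq_top_iff.1 (top_le_iff.1 (hψgen ▸ Subfield.closure_le.2 hle))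
  haveI : IsIso φ := (ConcreteCategory.isIso_iff_bijective φ).2 ⟨φ.hom.injective, hsurj⟩
  have hse : X.hom (genericPoint X.left) = sW (genericPoint W) := Subsingleton.elim _ _
  have hφ : sW.stalkMap (genericPoint W) ≫ φ =
      (Spec (CommRingCat.of K)).presheaf.stalkSpecializes (Inseparable.of_eq hse).specializes ≫
        X.hom.stalkMap (genericPoint X.left) := by
    apply Spec.map_injective
    rw [← cancel_mono ((Spec (CommRingCat.of K)).fromSpecStalk _)]
    simp only [Spec.map_comp, Category.assoc, Scheme.SpecMap_stalkMap_fromSpecStalk,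
      Scheme.SpecMap_stalkSpecializes_fromSpecStalk]
    rw [reassoc_of% hq', hqs, ← hc]
  obtain ⟨U, hxU, V, f, hf, -, h2⟩ := Misc15.spread_out_isIso_of_lft X.hom sW hse φ hφ
  refine ⟨Y, hYi, hY, U, e.hom ⁻¹ᵁ V, ⟨_, hxU⟩, ⟨Over.isoMk (asIso f ≪≫ (asIso (e.hom ∣_ V)).symm) ?_⟩⟩
  show (f ≫ inv (e.hom ∣_ V)) ≫ (e.hom ⁻¹ᵁ V).ι ≫
    (𝔸(ULift.{u} (Fin 1); Spec (CommRingCat.of A)) ↘ Spec (CommRingCat.of A)) ≫ Y.hom = U.ι ≫ X.hom
  have h : inv (e.hom ∣_ V) ≫ (e.hom ⁻¹ᵁ V).ι = V.ι ≫ e.inv := by
    rw [IsIso.inv_comp_eq, morphismRestrict_ι_assoc, Iso.hom_inv_id, Category.comp_id]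
  rw [Category.assoc, reassoc_of% h]
  exact h2

end Groth.Agent.GaGm29
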